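import Mathlib.CategoryTheory.Subobject.ArtinianObject
import Mathlib.CategoryTheory.Subobject.NoetherianObject
import Mathlib.CategoryTheory.Abelian.Basic
import Mathlib.CategoryTheory.Adjunction.FullyFaithful
import Mathlib.CategoryTheory.Adjunction.Limits
import Mathlib.CategoryTheory.Simple
import Mathlib.CategoryTheory.Subobject.Limits
import Mathlib.Algebra.Homology.ShortComplex.ExactFunctor

/-!
# The counit of a coreflection onto a subcategory of objects of finite length
-/

set_option autoImplicit false
universe v u v' u'

open CategoryTheory Category Limits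

namespace K935.Counit

variable {A : Type u} [Category.{v} A] [Abelian A] {B : Type u'} [Category.{v'} B] [Abelian B]
    (u : A ⥤ B) [u.Full] [u.Faithful] [PreservesFiniteLimits u] [PreservesFiniteColimits u]

omit [u.Full] [u.Faithful] in
/-- A subobject `K` of `u X` receiving no nonzero map from an `u S` is zero. -/
theorem isZero_of_sub (hlen : ∀ X : A, IsArtinianObject X ∧ IsNoetherianObject X)
    (hsimple : ∀ X : A, Simple X → Simple (u.obj X)) (X : A) (N : Subobject X) :
    ∀ (K : B) (k : K ⟶ u.obj (cokernel N.arrow)) [Mono k],
      (∀ (S : A) (f : u.obj S ⟶ K), f = 0) → IsZero K := by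
  have hX := (hlen X).2
  have hadd : u.PreservesZeroMorphisms := inferInstance
  induction N using WellFoundedGT.induction with
  | ind N ih =>
    intro K k _ hK
    by_cases hQ : IsZero (cokernel N.arrow)
    · exact IsZero.of_mono k (u.map_isZero hQ)
    · have := (hlen (cokernel N.arrow)).1
      let i := simpleSubobjectArrow hQ
      let c : X ⟶ cokernel i := cokernel.π N.arrow ≫ cokernel.π i
      have hi : i ≠ 0 := by
        intro h
        have h1 : IsZero (simpleSubobject hQ) := IsZero.of_mono_eq_zero i h
        exact Simple.not_isZero (simpleSubobject hQ) h1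
      let N' : Subobject X := kernelSubobject c
      have hle : N ≤ N' := le_kernelSubobject c N (by simp [c])
      have hlt : N < N' := by
        refine lt_of_le_of_ne hle fun h => hi ?_
        have h1 : N'.arrow ≫ cokernel.π N.arrow = 0 := by
          rw [← h]
          exact cokernel.condition _
        have h2 : kernel.ι c ≫ cokernel.π N.arrow = 0 := by
          have h3 : kernel.ι c = (kernelSubobjectIso c).inv ≫ N'.arrow := by
            simp [N']
          rw [h3, assoc, h1, comp_zero]
        let d : cokernel i ⟶ cokernel N.arrow := Abelian.epiDesc c _ h2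
        have h4 : c ≫ d = cokernel.π N.arrow := Abelian.comp_epiDesc c _ h2
        have h5 : cokernel.π i ≫ d = 𝟙 _ := by
          rw [← cancel_epi (cokernel.π N.arrow), ← assoc]
          exact h4.trans (comp_id _).symm
        calc i = i ≫ (cokernel.π i ≫ d) := by rw [h5, comp_id]
          _ = 0 := by rw [← assoc, cokernel.condition, zero_comp]
      -- the cokernel of `N'` is the cokernel of `i`
      have hc0 : N'.arrow ≫ c = 0 := kernelSubobject_arrow_comp c
      let e : cokernel i ⟶ cokernel N'.arrow := Abelian.epiDesc c (cokernel.π N'.arrow) (by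
        have h3 : kernel.ι c = (kernelSubobjectIso c).inv ≫ N'.arrow := by
          simp [N']
        rw [h3, assoc, cokernel.condition, comp_zero])
      have he : c ≫ e = cokernel.π N'.arrow := Abelian.comp_epiDesc c _ _
      have hesplit : e ≫ cokernel.desc N'.arrow c hc0 = 𝟙 _ := by
        rw [← cancel_epi c, ← assoc, he, cokernel.π_desc, comp_id]
      have hemono : Mono e := mono_of_mono_fac hesplit
      have hk : Mono (k ≫ u.map (cokernel.π i)) := by
        apply Preadditive.mono_of_kernel_zero
        let ι := kernel.ι (k ≫ u.map (cokernel.π i))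
        have hex : (ShortComplex.mk (u.map i) (u.map (cokernel.π i))
            (by rw [← u.map_comp, cokernel.condition, u.map_zero])).Exact :=
          (ShortComplex.exact_cokernel i).map u
        have hmono : Mono (u.map i) := inferInstance
        have h1 : (ι ≫ k) ≫ u.map (cokernel.π i) = 0 := by
          rw [assoc]; exact kernel.condition _
        let ℓ := hex.lift (ι ≫ k) h1
        have hℓ : ℓ ≫ u.map i = ι ≫ k := hex.lift_f (ι ≫ k) h1
        have hℓm : Mono ℓ := by
          have : Mono (ℓ ≫ u.map i) := by rw [hℓ]; infer_instance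
          exact mono_of_mono ℓ (u.map i)
        have hsim := hsimple _ (inferInstance : Simple (simpleSubobject hQ))
        by_cases h0 : ℓ = 0
        · rw [h0, zero_comp] at hℓ
          exact zero_of_comp_mono k hℓ.symm
        · have := isIso_of_mono_of_nonzero h0
          have h3 := hK _ (inv ℓ ≫ ι)
          have h4 : ι = 0 := by
            rw [← cancel_epi (inv ℓ), h3, comp_zero]
          exact h4
      have hk' : Mono (k ≫ u.map (cokernel.π i ≫ e)) := by
        rw [u.map_comp, ← assoc]
        exact mono_comp _ _
      exact ih N' hlt K (k ≫ u.map (cokernel.π i ≫ e)) hK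

theorem mono_counit (uStar : B ⥤ A) (adj : u ⊣ uStar)
    (hlen : ∀ X : A, IsArtinianObject X ∧ IsNoetherianObject X)
    (hsimple : ∀ X : A, Simple X → Simple (u.obj X)) (Y : B) :
    Mono (adj.counit.app Y) := by
  apply Preadditive.mono_of_kernel_zero
  let K := kernel (adj.counit.app Y)
  let ι : K ⟶ u.obj (uStar.obj Y) := kernel.ι (adj.counit.app Y)
  have hK : ∀ (S : A) (f : u.obj S ⟶ K), f = 0 := by
    intro S f
    apply zero_of_comp_mono ι
    have h1 : (f ≫ ι) ≫ adj.counit.app Y = 0 := by
      rw [assoc]; erw [kernel.condition]; rw [comp_zero]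
    obtain ⟨g, hg⟩ := u.map_surjective (f ≫ ι)
    rw [← hg] at h1
    have h2 : g = 0 := by
      apply (adj.homEquiv _ _).symm.injective
      rw [adj.homEquiv_counit, adj.homEquiv_counit, h1, u.map_zero, zero_comp]
    rw [← hg, h2, u.map_zero]
  let j : uStar.obj Y ≅ cokernel (⊥ : Subobject (uStar.obj Y)).arrow :=
    (cokernelZeroIsoTarget (X := ((⊥ : Subobject (uStar.obj Y)) : A)) (Y := uStar.obj Y)).symm ≪≫
      cokernelIsoOfEq (by simp)
  have h3 : Mono (ι ≫ u.map j.hom) := mono_comp _ _
  have h4 := isZero_of_sub u hlen hsimple (uStar.obj Y) ⊥ K (ι ≫ u.map j.hom) hK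
  exact h4.eq_of_src _ _

end K935.Counit
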