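import Mathlib.CategoryTheory.Triangulated.TStructure.AbelianSubcategory
import Mathlib.CategoryTheory.Triangulated.TStructure.Heart
import Mathlib.CategoryTheory.Triangulated.TStructure.TruncLEGT
import Mathlib.CategoryTheory.Triangulated.TStructure.TruncLTGE

/-!
# The heart of a t-structure
-/

set_option autoImplicit false
universe v u v' u'

open CategoryTheory Category Limits Pretriangulated Triangulated ZeroObject Preadditive

namespace K935.Heart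

variable {C : Type u} [Category.{v} C] [Preadditive C] [HasZeroObject C] [HasShift C ℤ]
  [∀ n : ℤ, (shiftFunctor C n).Additive] [Pretriangulated C] (t : TStructure C)
  {H : Type u'} [Category.{v'} H] [Preadditive H] [hH : t.Heart H]

/-- A triangle isomorphic to a distinguished triangle is distinguished (explicit form). -/
theorem dist_of_iso {X Y Z X' Y' Z' : C} {f : X ⟶ Y} {g : Y ⟶ Z} {h : Z ⟶ X⟦(1 : ℤ)⟧}
    {f' : X' ⟶ Y'} {g' : Y' ⟶ Z'} {h' : Z' ⟶ X'⟦(1 : ℤ)⟧}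
    (hT : Triangle.mk f' g' h' ∈ distTriang C) (a : X ≅ X') (b : Y ≅ Y') (c : Z ≅ Z')
    (comm₁ : f ≫ b.hom = a.hom ≫ f') (comm₂ : g ≫ c.hom = b.hom ≫ g')
    (comm₃ : h ≫ a.hom⟦(1 : ℤ)⟧' = c.hom ≫ h') : Triangle.mk f g h ∈ distTriang C :=
  isomorphic_distinguished _ hT _ (Triangle.isoMk _ _ a b c comm₁ comm₂ comm₃)

theorem isLE_mid {X Y Z : C} {f : X ⟶ Y} {g : Y ⟶ Z} {h : Z ⟶ X⟦(1 : ℤ)⟧}
    (hT : Triangle.mk f g h ∈ distTriang C) (n : ℤ) (h1 : t.IsLE X n) (h2 : t.IsLE Z n) :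
    t.IsLE Y n := t.isLE₂ _ hT n h1 h2

theorem isGE_mid {X Y Z : C} {f : X ⟶ Y} {g : Y ⟶ Z} {h : Z ⟶ X⟦(1 : ℤ)⟧}
    (hT : Triangle.mk f g h ∈ distTriang C) (n : ℤ) (h1 : t.IsGE X n) (h2 : t.IsGE Z n) :
    t.IsGE Y n := t.isGE₂ _ hT n h1 h2

theorem isLE_right {X Y Z : C} {f : X ⟶ Y} {g : Y ⟶ Z} {h : Z ⟶ X⟦(1 : ℤ)⟧}
    (hT : Triangle.mk f g h ∈ distTriang C) (n : ℤ) (h1 : t.IsLE X (n + 1)) (h2 : t.IsLE Y n) :
    t.IsLE Z n :=
  t.isLE₂ _ (rot_of_distTriang _ hT) n h2 (t.isLE_shift X (n + 1) 1 n)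

theorem isGE_right {X Y Z : C} {f : X ⟶ Y} {g : Y ⟶ Z} {h : Z ⟶ X⟦(1 : ℤ)⟧}
    (hT : Triangle.mk f g h ∈ distTriang C) (n : ℤ) (h1 : t.IsGE X (n + 1)) (h2 : t.IsGE Y n) :
    t.IsGE Z n :=
  t.isGE₂ _ (rot_of_distTriang _ hT) n h2 (t.isGE_shift X (n + 1) 1 n)

theorem isLE_left {X Y Z : C} {f : X ⟶ Y} {g : Y ⟶ Z} {h : Z ⟶ X⟦(1 : ℤ)⟧}
    (hT : Triangle.mk f g h ∈ distTriang C) (n : ℤ) (h1 : t.IsLE Y n) (h2 : t.IsLE Z (n - 1)) :
    t.IsLE X n :=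
  t.isLE₂ _ (inv_rot_of_distTriang _ hT) n (t.isLE_shift Z (n - 1) (-1) n) h1

theorem isGE_left {X Y Z : C} {f : X ⟶ Y} {g : Y ⟶ Z} {h : Z ⟶ X⟦(1 : ℤ)⟧}
    (hT : Triangle.mk f g h ∈ distTriang C) (n : ℤ) (h1 : t.IsGE Y n) (h2 : t.IsGE Z (n - 1)) :
    t.IsGE X n :=
  t.isGE₂ _ (inv_rot_of_distTriang _ hT) n (t.isGE_shift Z (n - 1) (-1) n) h1

/-- No negative self-extensions. -/
theorem hom_shift_eq_zero ⦃X Y : H⦄ ⦃n : ℤ⦄ (f : t.ιHeart.obj X ⟶ (t.ιHeart.obj Y)⟦n⟧)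
    (hn : n < 0) : f = 0 := by
  have h1 : t.IsGE ((t.ιHeart.obj Y)⟦n⟧) (-n) := t.isGE_shift _ 0 n (-n) (by lia)
  exact t.zero f 0 (-n) (by lia)

/-- An object of the heart comes from `H`. -/
theorem exists_iso (Z : C) (h1 : t.IsLE Z 0) (h2 : t.IsGE Z 0) :
    ∃ X : H, Nonempty (t.ιHeart.obj X ≅ Z) := by
  have h : t.heart Z := (t.mem_heart_iff Z).mpr ⟨h1, h2⟩
  rw [← t.essImage_ιHeart H] at h
  exact ⟨h.witness, ⟨h.getIso⟩⟩

include t hH in
theorem hasZeroObject : HasZeroObject H := by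
  obtain ⟨X, ⟨e⟩⟩ := exists_iso t (H := H) (0 : C) inferInstance inferInstance
  refine ⟨⟨X, ?_⟩⟩
  rw [IsZero.iff_id_eq_zero]
  apply t.ιHeart.map_injective
  rw [CategoryTheory.Functor.map_id, Functor.map_zero, ← IsZero.iff_id_eq_zero]
  exact (isZero_zero C).of_iso e

include t hH in
theorem hasBinaryBiproducts : HasBinaryBiproducts H := ⟨fun X Y => by
  have hLE : t.IsLE (t.ιHeart.obj X ⊞ t.ιHeart.obj Y) 0 :=
    isLE_mid t (binaryBiproductTriangle_distinguished (t.ιHeart.obj X) (t.ιHeart.obj Y)) 0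
      inferInstance inferInstance
  have hGE : t.IsGE (t.ιHeart.obj X ⊞ t.ιHeart.obj Y) 0 :=
    isGE_mid t (binaryBiproductTriangle_distinguished (t.ιHeart.obj X) (t.ιHeart.obj Y)) 0
      inferInstance inferInstance
  obtain ⟨Z, ⟨e⟩⟩ := exists_iso t (H := H) _ hLE hGE
  exact hasBinaryBiproduct_of_total
    { pt := Z
      fst := t.ιHeart.preimage (e.hom ≫ biprod.fst)
      snd := t.ιHeart.preimage (e.hom ≫ biprod.snd)
      inl := t.ιHeart.preimage (biprod.inl ≫ e.inv)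
      inr := t.ιHeart.preimage (biprod.inr ≫ e.inv)
      inl_fst := t.ιHeart.map_injective (by simp)
      inl_snd := t.ιHeart.map_injective (by simp)
      inr_fst := t.ιHeart.map_injective (by simp)
      inr_snd := t.ιHeart.map_injective (by simp) }
    (t.ιHeart.map_injective (by
      simp only [Functor.map_add, Functor.map_comp, Functor.map_preimage, assoc]
      rw [← comp_add, ← assoc, ← assoc biprod.snd, ← add_comp, biprod.total]
      simp))⟩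

include t hH in
theorem hasFiniteProducts : HasFiniteProducts H := by
  have := hasZeroObject t (H := H)
  have := hasBinaryBiproducts t (H := H)
  exact hasFiniteProducts_of_has_binary_and_terminal

/-- Every morphism of the heart is admissible. -/
theorem admissible [IsTriangulated C] : AbelianSubcategory.admissibleMorphism (t.ιHeart (H := H)) = ⊤ := by
  rw [eq_top_iff]
  intro X₁ X₂ f₁ _ X₃ f₂ f₃ hT
  have hLE : t.IsLE X₃ 0 := isLE_right t hT 0 (t.isLE_of_le (t.ιHeart.obj X₁) 0 (0 + 1))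
    (inferInstanceAs (t.IsLE (t.ιHeart.obj X₂) 0))
  have hGE : t.IsGE X₃ (-1) := isGE_right t hT (-1) (inferInstanceAs (t.IsGE (t.ιHeart.obj X₁) 0))
    (t.isGE_of_ge (t.ιHeart.obj X₂) (-1) 0)
  obtain ⟨Q, ⟨eQ⟩⟩ := exists_iso t (H := H) ((t.truncGE 0).obj X₃) inferInstance inferInstance
  have h1 : t.IsLE ((t.truncLT 0).obj X₃) (-1) := inferInstanceAs (t.IsLE ((t.truncLT 0).obj X₃) (0 - 1))
  have h2 : t.IsGE ((t.truncLT 0).obj X₃) (-1) := inferInstance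
  obtain ⟨K, ⟨eK⟩⟩ := exists_iso t (H := H) (((t.truncLT 0).obj X₃)⟦(-1 : ℤ)⟧)
    (t.isLE_shift _ (-1) (-1) 0) (t.isGE_shift _ (-1) (-1) 0)
  let e : (t.ιHeart.obj K)⟦(1 : ℤ)⟧ ≅ (t.truncLT 0).obj X₃ :=
    (shiftFunctor C (1 : ℤ)).mapIso eK ≪≫ (shiftEquiv C (1 : ℤ)).counitIso.app _
  refine ⟨K, Q, e.hom ≫ (t.truncLTι 0).app X₃, (t.truncGEπ 0).app X₃ ≫ eQ.inv,
    eQ.hom ≫ (t.truncGEδLT 0).app X₃ ≫ e.inv⟦(1 : ℤ)⟧', ?_⟩
  exact dist_of_iso (t.triangleLTGE_distinguished 0 X₃) e (Iso.refl _) eQ (by simp) (by simp)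
    (by simp [← Functor.map_comp])

include t hH in
/-- The heart is abelian. -/
theorem exists_abelian [IsTriangulated C] :
    ∃ a : Abelian H, @Abelian.toPreadditive H _ a = ‹Preadditive H› := by
  have := hasFiniteProducts t (H := H)
  exact ⟨AbelianSubcategory.abelian (t.ιHeart (H := H)) (hom_shift_eq_zero t) (admissible t), rfl⟩

end K935.Heart
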