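import Groth.Agent.PervT.K935.Heart
import Mathlib.Algebra.Homology.ShortComplex.ShortExact
import Mathlib.Algebra.Homology.ShortComplex.Abelian
import Mathlib.Algebra.Homology.ShortComplex.ExactFunctor

/-!
# Short exact sequences in the heart of a t-structure
-/

set_option autoImplicit false
universe v u v' u'

open CategoryTheory Category Limits Pretriangulated Triangulated ZeroObject Preadditive

namespace K935.HeartExact

open K935.Heart

variable {C : Type u} [Category.{v} C] [Preadditive C] [HasZeroObject C] [HasShift C ℤ]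
  [∀ n : ℤ, (shiftFunctor C n).Additive] [Pretriangulated C] [IsTriangulated C] (t : TStructure C)
  {H : Type u'} [Category.{v'} H] [Abelian H] [hH : t.Heart H]

theorem shortExact_iff {X Y Z : H} (u : X ⟶ Y) (v : Y ⟶ Z) :
    (∃ huv : u ≫ v = 0, (ShortComplex.mk u v huv).ShortExact) ↔
      ∃ (w : t.ιHeart.obj Z ⟶ (t.ιHeart.obj X)⟦(1 : ℤ)⟧),
        Triangle.mk (t.ιHeart.map u) (t.ιHeart.map v) w ∈ distTriang C := by
  constructor
  · rintro ⟨huv, hS⟩
    have hepi : Epi v := hS.epi_g
    obtain ⟨X₁, i, δ, hT⟩ := AbelianSubcategory.exists_distinguished_triangle_of_epi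
      (hom_shift_eq_zero t) (admissible t) v
    have h1 := AbelianSubcategory.isLimitKernelForkOfDistTriang (hom_shift_eq_zero t) i v δ hT
    have h2 := hS.fIsKernel
    let a : X ≅ X₁ := h2.conePointUniqueUpToIso h1
    have ha : a.hom ≫ i = u :=
      h2.conePointUniqueUpToIso_hom_comp h1 WalkingParallelPair.zero
    refine ⟨δ ≫ (t.ιHeart.map a.inv)⟦(1 : ℤ)⟧', ?_⟩
    refine dist_of_iso hT (t.ιHeart.mapIso a) (Iso.refl _) (Iso.refl _) ?_ ?_ ?_
    · simp [← ha]
    · simp
    · simp [← Functor.map_comp]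
  · rintro ⟨w, hT⟩
    have h1 := AbelianSubcategory.isLimitKernelForkOfDistTriang (hom_shift_eq_zero t) u v w hT
    have h2 := AbelianSubcategory.isColimitCokernelCoforkOfDistTriang (hom_shift_eq_zero t) u v w hT
    have huv : u ≫ v = 0 := t.ιHeart.map_injective (by
      have h3 : t.ιHeart.map u ≫ t.ιHeart.map v = 0 := comp_distTriang_mor_zero₁₂ _ hT
      rw [Functor.map_comp, h3, Functor.map_zero])
    refine ⟨huv, ShortComplex.ShortExact.mk' ?_ ?_ ?_⟩
    · exact ShortComplex.exact_of_f_is_kernel _ h1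
    · exact mono_of_isLimit_fork h1
    · exact epi_of_isColimit_cofork h2

end K935.HeartExact
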