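import Groth.Agent.PervT.K935.Heart
import Mathlib.CategoryTheory.Triangulated.HomologicalFunctor
import Mathlib.CategoryTheory.Abelian.Refinements

/-!
# The degree zero cohomology functor of a t-structure is homological
-/

set_option autoImplicit false
universe v u v' u'

open CategoryTheory Category Limits Pretriangulated Triangulated ZeroObject Preadditive

namespace K935.Homological

open K935.Heart

section

variable {C : Type u} [Category.{v} C] [Preadditive C] [HasZeroObject C] [HasShift C ℤ]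
  [∀ n : ℤ, (shiftFunctor C n).Additive] [Pretriangulated C]

theorem coyoneda₂ {X Y Z : C} {f : X ⟶ Y} {g : Y ⟶ Z} {h : Z ⟶ X⟦(1 : ℤ)⟧}
    (hT : Triangle.mk f g h ∈ distTriang C) {W : C} (a : W ⟶ Y) (ha : a ≫ g = 0) :
    ∃ b : W ⟶ X, a = b ≫ f := Triangle.coyoneda_exact₂ _ hT a ha

theorem coyoneda₃ {X Y Z : C} {f : X ⟶ Y} {g : Y ⟶ Z} {h : Z ⟶ X⟦(1 : ℤ)⟧}
    (hT : Triangle.mk f g h ∈ distTriang C) {W : C} (a : W ⟶ Z) (ha : a ≫ h = 0) :
    ∃ b : W ⟶ Y, a = b ≫ g := Triangle.coyoneda_exact₃ _ hT a ha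

theorem yoneda₂ {X Y Z : C} {f : X ⟶ Y} {g : Y ⟶ Z} {h : Z ⟶ X⟦(1 : ℤ)⟧}
    (hT : Triangle.mk f g h ∈ distTriang C) {W : C} (a : Y ⟶ W) (ha : f ≫ a = 0) :
    ∃ b : Z ⟶ W, a = g ≫ b := Triangle.yoneda_exact₂ _ hT a ha

theorem yoneda₃ {X Y Z : C} {f : X ⟶ Y} {g : Y ⟶ Z} {h : Z ⟶ X⟦(1 : ℤ)⟧}
    (hT : Triangle.mk f g h ∈ distTriang C) {W : C} (a : Z ⟶ W) (ha : g ≫ a = 0) :
    ∃ b : X⟦(1 : ℤ)⟧ ⟶ W, a = h ≫ b := Triangle.yoneda_exact₃ _ hT a ha

theorem complete₂ {X Y Z X' Y' Z' : C} {f : X ⟶ Y} {g : Y ⟶ Z} {h : Z ⟶ X⟦(1 : ℤ)⟧}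
    {f' : X' ⟶ Y'} {g' : Y' ⟶ Z'} {h' : Z' ⟶ X'⟦(1 : ℤ)⟧}
    (hT : Triangle.mk f g h ∈ distTriang C) (hT' : Triangle.mk f' g' h' ∈ distTriang C)
    (a : X ⟶ X') (c : Z ⟶ Z') (comm : h ≫ a⟦(1 : ℤ)⟧' = c ≫ h') :
    ∃ b : Y ⟶ Y', f ≫ b = a ≫ f' ∧ g ≫ c = b ≫ g' :=
  complete_distinguished_triangle_morphism₂ _ _ hT hT' a c comm

theorem comp₁₂ {X Y Z : C} {f : X ⟶ Y} {g : Y ⟶ Z} {h : Z ⟶ X⟦(1 : ℤ)⟧}
    (hT : Triangle.mk f g h ∈ distTriang C) : f ≫ g = 0 := comp_distTriang_mor_zero₁₂ _ hT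

theorem comp₂₃ {X Y Z : C} {f : X ⟶ Y} {g : Y ⟶ Z} {h : Z ⟶ X⟦(1 : ℤ)⟧}
    (hT : Triangle.mk f g h ∈ distTriang C) : g ≫ h = 0 := comp_distTriang_mor_zero₂₃ _ hT

end

variable {C : Type u} [Category.{v} C] [Preadditive C] [HasZeroObject C] [HasShift C ℤ]
  [∀ n : ℤ, (shiftFunctor C n).Additive] [Pretriangulated C] (t : TStructure C)
  {H : Type u'} [Category.{v'} H] [Abelian H] [hH : t.Heart H]
  (H0 : C ⥤ H) (e : H0 ⋙ t.ιHeart ≅ t.truncGE 0 ⋙ t.truncLE 0)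

/-- The canonical map `H⁰ X ⟶ τ^{≥ 0} X`. -/
noncomputable def aMap (X : C) : t.ιHeart.obj (H0.obj X) ⟶ (t.truncGE 0).obj X :=
  e.hom.app X ≫ (t.truncLEι 0).app ((t.truncGE 0).obj X)

theorem aMap_naturality {X Y : C} (f : X ⟶ Y) :
    t.ιHeart.map (H0.map f) ≫ aMap t H0 e Y = aMap t H0 e X ≫ (t.truncGE 0).map f := by
  have h1 := e.hom.naturality f
  have h2 := (t.truncLEι 0).naturality ((t.truncGE 0).map f)
  simp only [Functor.comp_map, Functor.id_map] at h1 h2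
  simp only [aMap, assoc]
  rw [← h2, ← assoc, h1, assoc]

theorem aMap_ext {X : C} {W : H} {f g : W ⟶ H0.obj X}
    (h : t.ιHeart.map f ≫ aMap t H0 e X = t.ιHeart.map g ≫ aMap t H0 e X) : f = g := by
  apply t.ιHeart.map_injective
  rw [← cancel_mono (e.hom.app X)]
  apply t.to_truncLE_obj_ext
  simpa [aMap] using h

theorem isIso_aMap [IsTriangulated C] (X : C) [t.IsLE X 0] : IsIso (aMap t H0 e X) := by
  have h1 : t.IsLE ((t.truncGE 0).obj X) 0 := inferInstance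
  unfold aMap
  infer_instance

include e in
theorem preservesZeroMorphisms : H0.PreservesZeroMorphisms := ⟨fun X Y => by
  apply t.ιHeart.map_injective
  have h1 := e.hom.naturality (0 : X ⟶ Y)
  simp only [Functor.comp_map] at h1
  rw [(t.truncGE 0).map_zero, (t.truncLE 0).map_zero, comp_zero] at h1
  rw [t.ιHeart.map_zero, ← cancel_mono (e.hom.app Y), h1, zero_comp]⟩

include e in
theorem exact [IsTriangulated C] {X Y Z : C} {u : X ⟶ Y} {v : Y ⟶ Z} {w : Z ⟶ X⟦(1 : ℤ)⟧}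
    (hT : Triangle.mk u v w ∈ distTriang C) (W : H) (g : W ⟶ H0.obj Y)
    (hg : g ≫ H0.map v = 0) : ∃ (A' : H) (π : A' ⟶ W) (_ : Epi π) (x₁ : A' ⟶ H0.obj X),
      π ≫ g = x₁ ≫ H0.map u := by
  let g' : t.ιHeart.obj W ⟶ (t.truncGE 0).obj Y := t.ιHeart.map g ≫ aMap t H0 e Y
  have hg' : g' ≫ (t.truncGE 0).map v = 0 := by
    simp only [g', assoc]
    rw [← aMap_naturality, ← assoc, ← Functor.map_comp, hg, Functor.map_zero, zero_comp]
  have hY : Triangle.mk ((t.truncLTι 0).app Y) ((t.truncGEπ 0).app Y) ((t.truncGEδLT 0).app Y) ∈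
    distTriang C := t.triangleLTGE_distinguished 0 Y
  -- the homotopy pullback `P` of `g'` along `Y ⟶ τ^{≥ 0} Y`
  obtain ⟨P, i, r, hP⟩ := distinguished_cocone_triangle₂ (g' ≫ (t.truncGEδLT 0).app Y)
  have hPLE : t.IsLE P 0 := isLE_mid t hP 0
    (t.isLE_of_le ((t.truncLT 0).obj Y) (0 - 1) 0) (inferInstanceAs (t.IsLE (t.ιHeart.obj W) 0))
  obtain ⟨q, hq1, hq2⟩ : ∃ q : P ⟶ Y, i ≫ q = (t.truncLTι 0).app Y ∧
      q ≫ (t.truncGEπ 0).app Y = r ≫ g' := by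
    obtain ⟨q, hq1, hq2⟩ := complete₂ hP hY (𝟙 _) g' (by simp)
    exact ⟨q, hq1.trans (id_comp _), hq2.symm⟩
  -- the composition to `Z` factors through `τ^{< 0} Z`
  obtain ⟨m, hm⟩ := coyoneda₂ (t.triangleLTGE_distinguished 0 Z) (q ≫ v) (by
    have h1 := (t.truncGEπ 0).naturality v
    simp only [Functor.id_map] at h1
    rw [assoc, h1, ← assoc, hq2, assoc, hg', comp_zero])
  obtain ⟨P', s, k, hP'⟩ := distinguished_cocone_triangle₁ m
  have hP'LE : t.IsLE P' 0 := isLE_left t hP' 0 hPLE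
    (inferInstanceAs (t.IsLE ((t.truncLT 0).obj Z) (0 - 1)))
  obtain ⟨x, hx⟩ := coyoneda₂ hT (s ≫ q) (by
    rw [assoc, hm, ← assoc, comp₁₂ hP', zero_comp])
  have hι : t.IsGE (t.ιHeart.obj W) 0 := inferInstance
  have hiso : IsIso (aMap t H0 e P') := isIso_aMap t H0 e P'
  let π : H0.obj P' ⟶ W := t.ιHeart.preimage (aMap t H0 e P' ≫ t.descTruncGE (s ≫ r) 0)
  have hπ : t.ιHeart.map π = aMap t H0 e P' ≫ t.descTruncGE (s ≫ r) 0 :=
    t.ιHeart.map_preimage _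
  refine ⟨H0.obj P', π, ?_, H0.map x, ?_⟩
  · rw [epi_iff_cancel_zero]
    intro T k' hk'
    apply t.ιHeart.map_injective
    rw [Functor.map_zero]
    have h1 : t.ιHeart.map (π ≫ k') = 0 := by rw [hk', Functor.map_zero]
    rw [Functor.map_comp, hπ, assoc] at h1
    have h2 : t.descTruncGE (s ≫ r) 0 ≫ t.ιHeart.map k' = 0 := by
      rw [← cancel_epi (aMap t H0 e P'), h1, comp_zero]
    have h3 : s ≫ (r ≫ t.ιHeart.map k') = 0 := by
      have := t.π_descTruncGE (s ≫ r) 0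
      rw [← assoc, ← this, assoc, h2, comp_zero]
    obtain ⟨b, hb⟩ := yoneda₂ hP' _ h3
    have h4 : t.IsLE ((t.truncLT 0).obj Z) (-1) :=
      inferInstanceAs (t.IsLE ((t.truncLT 0).obj Z) (0 - 1))
    have hb0 : b = 0 := t.zero b (-1) 0
    rw [hb0, comp_zero] at hb
    obtain ⟨c, hc⟩ := yoneda₃ hP _ hb
    have h4' : t.IsLE ((t.truncLT 0).obj Y) (-1) :=
      inferInstanceAs (t.IsLE ((t.truncLT 0).obj Y) (0 - 1))
    have h5 : t.IsLE (((t.truncLT 0).obj Y)⟦(1 : ℤ)⟧) (-2) := t.isLE_shift _ (-1) 1 (-2)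
    have hc0 : c = 0 := t.zero c (-2) 0
    rw [hc, hc0, comp_zero]
  · apply aMap_ext t H0 e
    rw [Functor.map_comp, hπ, Functor.map_comp, assoc, assoc, assoc, aMap_naturality,
      ← assoc (t.ιHeart.map (H0.map x)), aMap_naturality, assoc, ← Functor.map_comp, ← hx]
    congr 1
    apply t.from_truncGE_obj_ext
    have h1 := (t.truncGEπ 0).naturality (s ≫ q)
    simp only [Functor.id_map] at h1
    rw [← h1, ← assoc, t.π_descTruncGE]
    change (s ≫ r) ≫ g' = _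
    rw [assoc, ← hq2, assoc]

include e in
theorem isHomological [IsTriangulated C] : H0.IsHomological := by
  have := preservesZeroMorphisms t H0 e
  refine ⟨fun T hT => ?_⟩
  rw [ShortComplex.exact_iff_exact_up_to_refinements]
  intro W g hg
  exact exact t H0 e hT W g hg

end K935.Homological
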