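import Groth.Agent.PervT.K935.SerreHeart
import Mathlib.CategoryTheory.Localization.Triangulated

/-!
# t-structures on Verdier quotients
-/

set_option autoImplicit false
set_option linter.unusedSectionVars false
universe v u v' u'

open CategoryTheory Category Limits Pretriangulated Triangulated ZeroObject Preadditive

namespace K935.LocT

open K935.Heart K935.HeartExact K935.Homological K935.SerreHeart

variable {C : Type u} [Category.{v} C] [Preadditive C] [HasZeroObject C] [HasShift C ℤ]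
  [∀ n : ℤ, (shiftFunctor C n).Additive] [Pretriangulated C] [IsTriangulated C] (t : TStructure C)
  (hb : ∀ X : C, t.bounded X)
  (D : ObjectProperty C) [D.IsTriangulated] [D.IsClosedUnderIsomorphisms]
  (h1 : ∀ X : C, D X → ∀ n : ℤ, D ((t.truncGELE n n).obj X))
  (h2 : HeartClosed t D)

include hb h1 h2 in
theorem mem_truncGE_one {X' X : C} (s : X' ⟶ X) (hs : D.trW s) (hX : t.IsLE X 0) :
    D ((t.truncGE 1).obj X') := by
  let i1 : t.Heart t.heart.FullSubcategory := t.hasHeartFullSubcategory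
  have i2 : HasFiniteProducts t.heart.FullSubcategory := hasFiniteProducts t
  let i3 : Abelian t.heart.FullSubcategory :=
    AbelianSubcategory.abelian (t.ιHeart (H := t.heart.FullSubcategory))
      (hom_shift_eq_zero t) (admissible t)
  let H0 : C ⥤ t.heart.FullSubcategory := t.heart.lift (t.truncGE 0 ⋙ t.truncLE 0) (fun X => by
    rw [t.mem_heart_iff]
    exact ⟨inferInstanceAs (t.IsLE ((t.truncLE 0).obj ((t.truncGE 0).obj X)) 0),
      inferInstanceAs (t.IsGE ((t.truncLE 0).obj ((t.truncGE 0).obj X)) 0)⟩)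
  exact mem_truncGE (t := t) (D := D) H0 (Iso.refl _) hb h1 h2 s hs hX

variable {E : Type u'} [Category.{v'} E] [Preadditive E] [HasZeroObject E] [HasShift E ℤ]
    [∀ n : ℤ, (shiftFunctor E n).Additive] [Pretriangulated E]
    (q : C ⥤ E) [q.CommShift ℤ] [q.IsTriangulated] [q.IsLocalization D.trW]

include hb h1 h2 in
theorem zero_of_isLE_of_isGE {X Y : C} (hX : t.IsLE X 0) (hY : t.IsGE Y 1)
    (f : q.obj X ⟶ q.obj Y) : f = 0 := by
  obtain ⟨φ, hφ⟩ := Localization.exists_rightFraction q D.trW f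
  have hD := mem_truncGE_one t hb D h1 h2 φ.s φ.hs hX
  have hσ : D.trW ((t.truncLTι 1).app φ.X') :=
    ObjectProperty.trW.mk D (t.triangleLTGE_distinguished 1 φ.X') hD
  have hiso : IsIso (q.map ((t.truncLTι 1).app φ.X')) := Localization.inverts q D.trW _ hσ
  have g1 : t.IsLE ((t.truncLT 1).obj φ.X') 0 := t.isLE_truncLT_obj φ.X' 1 0
  have hz : (t.truncLTι 1).app φ.X' ≫ φ.f = 0 := t.zero _ 0 1
  have hz' : q.map φ.f = 0 := by
    rw [← cancel_epi (q.map ((t.truncLTι 1).app φ.X'))]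
    erw [← q.map_comp, hz]
    rw [q.map_zero, comp_zero]
  have hs : IsIso (q.map φ.s) := Localization.inverts q D.trW _ φ.hs
  rw [hφ, ← cancel_epi (q.map φ.s), MorphismProperty.RightFraction.map_s_comp_map, hz', comp_zero]

/-- The essential image of `C^{≤ n}`. -/
def le (n : ℤ) : ObjectProperty E := fun Y => ∃ X : C, t.IsLE X n ∧ Nonempty (q.obj X ≅ Y)

/-- The essential image of `C^{≥ n}`. -/
def ge (n : ℤ) : ObjectProperty E := fun Y => ∃ X : C, t.IsGE X n ∧ Nonempty (q.obj X ≅ Y)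

instance (n : ℤ) : (le t q n).IsClosedUnderIsomorphisms :=
  ⟨fun e ⟨X, hX, ⟨i⟩⟩ => ⟨X, hX, ⟨i ≪≫ e⟩⟩⟩

instance (n : ℤ) : (ge t q n).IsClosedUnderIsomorphisms :=
  ⟨fun e ⟨X, hX, ⟨i⟩⟩ => ⟨X, hX, ⟨i ≪≫ e⟩⟩⟩

/-- The t-structure on the Verdier quotient. -/
def tStructure : TStructure E where
  le := le t q
  ge := ge t q
  le_shift n a n' h Y := by
    rintro ⟨X, hX, ⟨i⟩⟩
    exact ⟨X⟦a⟧, t.isLE_shift X n a n' h,
      ⟨(q.commShiftIso a).app X ≪≫ (shiftFunctor E a).mapIso i⟩⟩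
  ge_shift n a n' h Y := by
    rintro ⟨X, hX, ⟨i⟩⟩
    exact ⟨X⟦a⟧, t.isGE_shift X n a n' h,
      ⟨(q.commShiftIso a).app X ≪≫ (shiftFunctor E a).mapIso i⟩⟩
  zero' := by
    rintro Y Y' f ⟨X, hX, ⟨i⟩⟩ ⟨X', hX', ⟨i'⟩⟩
    have h := zero_of_isLE_of_isGE t hb D h1 h2 q hX hX' (i.hom ≫ f ≫ i'.inv)
    rw [← cancel_epi i.hom, ← cancel_mono i'.inv, comp_zero, zero_comp, assoc, h]
  le_zero_le := by
    rintro Y ⟨X, hX, ⟨i⟩⟩
    exact ⟨X, t.isLE_of_le X 0 1, ⟨i⟩⟩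
  ge_one_le := by
    rintro Y ⟨X, hX, ⟨i⟩⟩
    exact ⟨X, t.isGE_of_ge X 0 1, ⟨i⟩⟩
  exists_triangle_zero_one Y := by
    have := Localization.essSurj q D.trW
    let X := q.objPreimage Y
    let i : q.obj X ≅ Y := q.objObjPreimageIso Y
    have g1 : t.IsLE ((t.truncLT 1).obj X) 0 := t.isLE_truncLT_obj X 1 0
    let a : (t.truncLT 1).obj X ⟶ X := (t.truncLTι 1).app X
    let b : X ⟶ (t.truncGE 1).obj X := (t.truncGEπ 1).app X
    let c : (t.truncGE 1).obj X ⟶ ((t.truncLT 1).obj X)⟦(1 : ℤ)⟧ := (t.truncGEδLT 1).app X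
    have hT : Triangle.mk (q.map a) (q.map b) (q.map c ≫ (q.commShiftIso (1 : ℤ)).hom.app _) ∈
      distTriang E := q.map_distinguished _ (t.triangleLTGE_distinguished 1 X)
    refine ⟨q.obj ((t.truncLT 1).obj X), q.obj ((t.truncGE 1).obj X),
      ⟨_, g1, ⟨Iso.refl _⟩⟩, ⟨_, inferInstance, ⟨Iso.refl _⟩⟩,
      q.map a ≫ i.hom, i.inv ≫ q.map b,
      q.map c ≫ (q.commShiftIso (1 : ℤ)).hom.app _, ?_⟩
    exact dist_of_iso hT (Iso.refl _) i.symm (Iso.refl _) (by simp) (by simp) (by simp)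

include hb h1 h2 in
/-- Existence and uniqueness of the quotient t-structure. -/
theorem main : ∃ t' : TStructure E,
      (∀ (X : C) (n : ℤ), t.IsLE X n → t'.IsLE (q.obj X) n) ∧
      (∀ (X : C) (n : ℤ), t.IsGE X n → t'.IsGE (q.obj X) n) ∧
      (∀ (Y : E) (n : ℤ), t'.IsLE Y n ↔ ∃ X : C, t.IsLE X n ∧ Nonempty (q.obj X ≅ Y)) ∧
      (∀ (Y : E) (n : ℤ), t'.IsGE Y n ↔ ∃ X : C, t.IsGE X n ∧ Nonempty (q.obj X ≅ Y)) ∧
      ∀ t'' : TStructure E,
        (∀ (X : C) (n : ℤ), t.IsLE X n → t''.IsLE (q.obj X) n) →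
        (∀ (X : C) (n : ℤ), t.IsGE X n → t''.IsGE (q.obj X) n) → t'' = t' := by
  let t' := tStructure t hb D h1 h2 q
  have hle : ∀ (Y : E) (n : ℤ), t'.IsLE Y n ↔ ∃ X : C, t.IsLE X n ∧ Nonempty (q.obj X ≅ Y) :=
    fun Y n => ⟨fun h => h.le, fun h => ⟨h⟩⟩
  have hge : ∀ (Y : E) (n : ℤ), t'.IsGE Y n ↔ ∃ X : C, t.IsGE X n ∧ Nonempty (q.obj X ≅ Y) :=
    fun Y n => ⟨fun h => h.ge, fun h => ⟨h⟩⟩
  refine ⟨t', fun X n h => (hle _ _).mpr ⟨X, h, ⟨Iso.refl _⟩⟩,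
    fun X n h => (hge _ _).mpr ⟨X, h, ⟨Iso.refl _⟩⟩, hle, hge, fun t'' h3 h4 => ?_⟩
  have k1 : ∀ (Y : E) (n : ℤ), t'.IsLE Y n → t''.IsLE Y n := by
    intro Y n hY
    obtain ⟨X, hX, ⟨i⟩⟩ := (hle Y n).mp hY
    have := h3 X n hX
    exact t''.isLE_of_iso i n
  have k2 : ∀ (Y : E) (n : ℤ), t'.IsGE Y n → t''.IsGE Y n := by
    intro Y n hY
    obtain ⟨X, hX, ⟨i⟩⟩ := (hge Y n).mp hY
    have := h4 X n hX
    exact t''.isGE_of_iso i n
  have k3 : ∀ (Y : E) (n : ℤ), t''.IsLE Y n → t'.IsLE Y n := by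
    intro Y n hY
    rw [t'.isLE_iff_orthogonal n (n + 1) rfl]
    intro Z f hZ
    have := k2 Z (n + 1) hZ
    exact t''.zero f n (n + 1)
  have k4 : ∀ (Y : E) (n : ℤ), t''.IsGE Y n → t'.IsGE Y n := by
    intro Y n hY
    rw [t'.isGE_iff_orthogonal (n - 1) n (by lia)]
    intro Z f hZ
    have := k1 Z (n - 1) hZ
    exact t''.zero f (n - 1) n
  have m1 : t''.le = t'.le := by
    funext n Y
    apply propext
    rw [t''.le_iff_isLE, t'.le_iff_isLE]
    exact ⟨k3 Y n, k1 Y n⟩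
  have m2 : t''.ge = t'.ge := by
    funext n Y
    apply propext
    rw [t''.ge_iff_isGE, t'.ge_iff_isGE]
    exact ⟨k4 Y n, k2 Y n⟩
  cases ht'' : t''
  cases ht' : t'
  simp only [ht'', ht'] at m1 m2
  subst m1 m2
  rfl

end K935.LocT
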