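import Groth.Agent.PervT.K935.HeartExact
import Groth.Agent.PervT.K935.Homological

/-!
# Triangulated subcategories stable under the cohomology of a t-structure

`D` is a triangulated subcategory of `C`, closed under `τ^{≥ n} τ^{≤ n}` and whose intersection with the heart
is closed under subobjects and quotients.  For a bounded object `X`, `D X` iff all the cohomology objects are
in `D`.
-/

set_option autoImplicit false
set_option linter.unusedSectionVars false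
universe v u v' u'

open CategoryTheory Category Limits Pretriangulated Triangulated ZeroObject Preadditive

namespace K935.SerreHeart

open K935.Heart K935.HeartExact K935.Homological

variable {C : Type u} [Category.{v} C] [Preadditive C] [HasZeroObject C] [HasShift C ℤ]
  [∀ n : ℤ, (shiftFunctor C n).Additive] [Pretriangulated C] [IsTriangulated C] (t : TStructure C)
  {H : Type u'} [Category.{v'} H] [Abelian H] [hH : t.Heart H]
  (D : ObjectProperty C) [D.IsTriangulated] [D.IsClosedUnderIsomorphisms]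

/-- The hypothesis on the heart. -/
def HeartClosed : Prop := ∀ (X Y Z : C) (f : X ⟶ Y) (g : Y ⟶ Z) (h : Z ⟶ X⟦(1 : ℤ)⟧),
      Triangle.mk f g h ∈ distTriang C → t.heart X → t.heart Y → t.heart Z → D Y → D X ∧ D Z

variable {t D}

theorem mem_of_mono (h2 : HeartClosed t D) {X Y : H} (i : X ⟶ Y) (_ : Mono i)
    (hY : D (t.ιHeart.obj Y)) : D (t.ιHeart.obj X) := by
  have hS : (ShortComplex.mk i (cokernel.π i) (cokernel.condition i)).ShortExact :=
    ShortComplex.ShortExact.mk' (ShortComplex.exact_cokernel i) inferInstance inferInstance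
  obtain ⟨w, hw⟩ := (shortExact_iff t i (cokernel.π i)).mp ⟨_, hS⟩
  exact (h2 _ _ _ _ _ _ hw (t.ιHeart_obj_mem _) (t.ιHeart_obj_mem _) (t.ιHeart_obj_mem _) hY).1

theorem mem_of_epi (h2 : HeartClosed t D) {Y Z : H} (p : Y ⟶ Z) (_ : Epi p)
    (hY : D (t.ιHeart.obj Y)) : D (t.ιHeart.obj Z) := by
  have hS : (ShortComplex.mk (kernel.ι p) p (kernel.condition p)).ShortExact :=
    ShortComplex.ShortExact.mk' (ShortComplex.exact_kernel p) inferInstance inferInstance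
  obtain ⟨w, hw⟩ := (shortExact_iff t (kernel.ι p) p).mp ⟨_, hS⟩
  exact (h2 _ _ _ _ _ _ hw (t.ιHeart_obj_mem _) (t.ιHeart_obj_mem _) (t.ιHeart_obj_mem _) hY).2

variable (H0 : C ⥤ H) (e : H0 ⋙ t.ιHeart ≅ t.truncGE 0 ⋙ t.truncLE 0)

include e in
theorem isZero_of_isLE (X : C) (m n : ℤ) (hm : m < n) [t.IsLE X m] :
    IsZero (H0.obj (X⟦n⟧)) := by
  have h1 : t.IsLE (X⟦n⟧) (m - n) := t.isLE_shift X m n (m - n)
  have h2 : t.IsLE (X⟦n⟧) (-1) := t.isLE_of_le (X⟦n⟧) (m - n) (-1)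
  have h3 : IsZero ((t.truncGE 0).obj (X⟦n⟧)) := t.isZero_truncGE_obj_of_isLE (-1) 0 rfl _
  have h4 : IsZero ((t.truncLE 0).obj ((t.truncGE 0).obj (X⟦n⟧))) := (t.truncLE 0).map_isZero h3
  have h5 : IsZero (t.ιHeart.obj (H0.obj (X⟦n⟧))) := h4.of_iso (e.app (X⟦n⟧))
  rw [IsZero.iff_id_eq_zero] at h5 ⊢
  apply t.ιHeart.map_injective
  rw [CategoryTheory.Functor.map_id, h5, Functor.map_zero]

include e in
theorem isZero_of_isGE (X : C) (m n : ℤ) (hm : n < m) [t.IsGE X m] :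
    IsZero (H0.obj (X⟦n⟧)) := by
  have h1 : t.IsGE (X⟦n⟧) (m - n) := t.isGE_shift X m n (m - n)
  have h2 : t.IsGE (X⟦n⟧) 1 := t.isGE_of_ge (X⟦n⟧) 1 (m - n)
  have h3 : t.IsGE ((t.truncGE 0).obj (X⟦n⟧)) 1 := inferInstance
  have h4 : IsZero ((t.truncLE 0).obj ((t.truncGE 0).obj (X⟦n⟧))) :=
    t.isZero_truncLE_obj_of_isGE 0 1 rfl _
  have h5 : IsZero (t.ιHeart.obj (H0.obj (X⟦n⟧))) := h4.of_iso (e.app (X⟦n⟧))
  rw [IsZero.iff_id_eq_zero] at h5 ⊢
  apply t.ιHeart.map_injective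
  rw [CategoryTheory.Functor.map_id, h5, Functor.map_zero]

include e in
/-- On the heart, `H⁰` is the identity. -/
theorem nonempty_iso (X : C) (hLE : t.IsLE X 0) (hGE : t.IsGE X 0) :
    Nonempty (t.ιHeart.obj (H0.obj X) ≅ X) := by
  have h1 : t.IsLE ((t.truncGE 0).obj X) 0 := inferInstance
  exact ⟨e.app X ≪≫ asIso ((t.truncLEι 0).app ((t.truncGE 0).obj X)) ≪≫
    (asIso ((t.truncGEπ 0).app X)).symm⟩

include e in
theorem mem_H_of_mem (h1 : ∀ X : C, D X → ∀ n : ℤ, D ((t.truncGELE n n).obj X)) {X : C} (hX : D X)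
    (n : ℤ) : D (t.ιHeart.obj (H0.obj (X⟦n⟧))) := by
  have hX' : D (X⟦n⟧) := D.le_shift n _ hX
  exact D.prop_of_iso ((t.truncGELEIsoLEGE 0 0).app _ ≪≫ (e.app (X⟦n⟧)).symm) (h1 _ hX' 0)

include e in
theorem mem_mid_of_left (h2 : HeartClosed t D) {X Y Z : C} {f : X ⟶ Y} {g : Y ⟶ Z}
    {h : Z ⟶ X⟦(1 : ℤ)⟧} (hT : Triangle.mk f g h ∈ distTriang C) (n : ℤ)
    (hX : D (t.ιHeart.obj (H0.obj (X⟦n⟧)))) (hZ : IsZero (H0.obj (Z⟦n⟧))) :
    D (t.ιHeart.obj (H0.obj (Y⟦n⟧))) := by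
  have := isHomological t H0 e
  have hex := H0.map_distinguished_exact _ (Triangle.shift_distinguished _ hT n)
  have hepi := (ShortComplex.exact_iff_epi _ (hZ.eq_of_tgt _ _)).mp hex
  exact mem_of_epi h2 _ hepi hX

include e in
theorem mem_mid_of_right (h2 : HeartClosed t D) {X Y Z : C} {f : X ⟶ Y} {g : Y ⟶ Z}
    {h : Z ⟶ X⟦(1 : ℤ)⟧} (hT : Triangle.mk f g h ∈ distTriang C) (n : ℤ)
    (hX : IsZero (H0.obj (X⟦n⟧))) (hZ : D (t.ιHeart.obj (H0.obj (Z⟦n⟧)))) :
    D (t.ιHeart.obj (H0.obj (Y⟦n⟧))) := by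
  have := isHomological t H0 e
  have hex := H0.map_distinguished_exact _ (Triangle.shift_distinguished _ hT n)
  have hmono := (ShortComplex.exact_iff_mono _ (hX.eq_of_src _ _)).mp hex
  exact mem_of_mono h2 _ hmono hZ

theorem mem_of_isZero {X : H} (hX : IsZero X) : D (t.ιHeart.obj X) :=
  D.prop_of_isZero (t.ιHeart.map_isZero hX)

include e in
/-- A bounded object with all cohomology objects in `D` is in `D`. -/
theorem mem_of_mem_H_aux (h2 : HeartClosed t D) (k : ℕ) : ∀ (X : C) (a : ℤ),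
    t.IsGE X a → t.IsLE X (a + k) → (∀ n : ℤ, D (t.ιHeart.obj (H0.obj (X⟦n⟧)))) → D X := by
  induction k with
  | zero =>
    intro X a hGE hLE hX
    have h3 : t.IsLE (X⟦a⟧) 0 := by
      have h4 : t.IsLE X a := by simpa using hLE
      exact t.isLE_shift X a a 0
    have h4 : t.IsGE (X⟦a⟧) 0 := t.isGE_shift X a a 0
    obtain ⟨i⟩ := nonempty_iso H0 e (X⟦a⟧) h3 h4
    have h5 := D.prop_of_iso i (hX a)
    exact (D.prop_shift_iff_of_isStableUnderShift X a).mp h5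
  | succ k ih =>
    intro X a hGE hLE hX
    have hT : Triangle.mk ((t.truncLTι (a + 1)).app X) ((t.truncGEπ (a + 1)).app X)
      ((t.truncGEδLT (a + 1)).app X) ∈ distTriang C := t.triangleLTGE_distinguished (a + 1) X
    have hT1 := inv_rot_of_distTriang _ hT
    have hT2 := rot_of_distTriang _ hT
    have g1 : t.IsLE ((t.truncLT (a + 1)).obj X) a := inferInstance
    have g2 : t.IsGE ((t.truncLT (a + 1)).obj X) a := inferInstance
    have g3 : t.IsGE ((t.truncGE (a + 1)).obj X) (a + 1) := inferInstance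
    have g4 : t.IsLE ((t.truncGE (a + 1)).obj X) (a + 1 + k) := by
      have : t.IsLE X (a + 1 + k) := by
        have h5 : a + ((k + 1 : ℕ) : ℤ) = a + 1 + k := by lia
        rw [← h5]; exact hLE
      infer_instance
    have g5 : t.IsGE (((t.truncGE (a + 1)).obj X)⟦(-1 : ℤ)⟧) (a + 2) :=
      t.isGE_shift _ (a + 1) (-1) (a + 2)
    have g6 : t.IsLE (((t.truncLT (a + 1)).obj X)⟦(1 : ℤ)⟧) (a - 1) :=
      t.isLE_shift _ a 1 (a - 1)
    have k1 : D ((t.truncLT (a + 1)).obj X) := by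
      have h6 : D (((t.truncLT (a + 1)).obj X)⟦a⟧) := by
        obtain ⟨i⟩ := nonempty_iso H0 e (((t.truncLT (a + 1)).obj X)⟦a⟧)
          (t.isLE_shift _ a a 0) (t.isGE_shift _ a a 0)
        exact D.prop_of_iso i (mem_mid_of_right H0 e h2 hT1 a
          (isZero_of_isGE H0 e (((t.truncGE (a + 1)).obj X)⟦(-1 : ℤ)⟧) (a + 2) a (by lia)) (hX a))
      exact (D.prop_shift_iff_of_isStableUnderShift _ a).mp h6
    have k2 : D ((t.truncGE (a + 1)).obj X) := by
      refine ih _ (a + 1) g3 g4 fun n => ?_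
      by_cases hn : n < a + 1
      · exact mem_of_isZero (isZero_of_isGE H0 e _ (a + 1) n hn)
      · exact mem_mid_of_left H0 e h2 hT2 n (hX n)
          (isZero_of_isLE H0 e (((t.truncLT (a + 1)).obj X)⟦(1 : ℤ)⟧) (a - 1) n (by lia))
    exact D.ext_of_isTriangulatedClosed₂ _ hT k1 k2

include e in
theorem mem_of_mem_H (h2 : HeartClosed t D) (X : C) (hb : t.bounded X)
    (hX : ∀ n : ℤ, D (t.ιHeart.obj (H0.obj (X⟦n⟧)))) : D X := by
  obtain ⟨⟨a, ha⟩, ⟨b, hb⟩⟩ := hb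
  have h1 : t.IsLE X (a + ((b - a).toNat : ℤ)) := t.isLE_of_le X b _ (by lia)
  exact mem_of_mem_H_aux H0 e h2 _ X a ha h1 hX

include e in
/-- If `s : X' ⟶ X` has cone in `D` and `X` is `≤ 0` then `τ^{≥ 1} X'` is in `D`. -/
theorem mem_truncGE (hb : ∀ X : C, t.bounded X)
    (h1 : ∀ X : C, D X → ∀ n : ℤ, D ((t.truncGELE n n).obj X)) (h2 : HeartClosed t D)
    {X' X : C} (s : X' ⟶ X) (hs : D.trW s) (hX : t.IsLE X 0) : D ((t.truncGE 1).obj X') := by
  obtain ⟨N, g, h, hT, hN⟩ := (D.trW_iff s).mp hs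
  have hT1 := inv_rot_of_distTriang _ hT
  refine mem_of_mem_H H0 e h2 _ (hb _) fun n => ?_
  by_cases hn : n < 1
  · exact mem_of_isZero (isZero_of_isGE H0 e _ 1 n hn)
  · have hT' : Triangle.mk ((t.truncLTι 1).app X') ((t.truncGEπ 1).app X')
      ((t.truncGEδLT 1).app X') ∈ distTriang C := t.triangleLTGE_distinguished 1 X'
    have hT2 := rot_of_distTriang _ hT'
    have g1 : t.IsLE ((t.truncLT 1).obj X') 0 := t.isLE_truncLT_obj X' 1 0
    have g6 : t.IsLE (((t.truncLT 1).obj X')⟦(1 : ℤ)⟧) (-1) := t.isLE_shift _ 0 1 (-1)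
    refine mem_mid_of_left H0 e h2 hT2 n ?_
      (isZero_of_isLE H0 e (((t.truncLT 1).obj X')⟦(1 : ℤ)⟧) (-1) n (by lia))
    refine mem_mid_of_left H0 e h2 hT1 n (mem_H_of_mem H0 e h1 ?_ n)
      (isZero_of_isLE H0 e X 0 n (by lia))
    exact D.le_shift (-1) _ hN

end K935.SerreHeart
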